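import Groth.Agent.InvUfdLib.Semilocal
import Groth.Agent.QCoh.Support
import Groth.Agent.InvX.Frame
import Mathlib.RingTheory.Ideal.MinimalPrime.Noetherian
import Mathlib.RingTheory.KrullDimension.Basic

/-!
Near an isolated point of codimension at most one outside a retrocompact open.
-/

set_option autoImplicit false
set_option backward.isDefEq.respectTransparency false
set_option backward.isDefEq.respectTransparency.types false
set_option linter.style.haveILetI false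

universe u

open CategoryTheory AlgebraicGeometry TopologicalSpace Opposite
open Groth.Agent.AModX Groth.Agent.InvX

namespace Groth.Agent.PicExtendPts

/-- A containment of open sets at a point spreads out. -/
theorem spread {A : Type u} [CommRing A] (p : Ideal A) [p.IsPrime] (S : Set A) (f : A)
    (h : ∀ q : Ideal A, q.IsPrime → q ≤ p → f ∉ q → ∃ a ∈ S, a ∉ q) :
    ∃ s, s ∉ p ∧ ∀ q : Ideal A, q.IsPrime → s ∉ q → f ∉ q → ∃ a ∈ S, a ∉ q := by
  have hrad : algebraMap A (Localization.AtPrime p) f ∈ ((Ideal.span S).map (algebraMap A _)).radical := by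
    rw [Ideal.radical_eq_sInf, Ideal.mem_sInf]
    rintro Q ⟨hQ, hQp⟩
    by_contra hf
    have hle : Q.comap (algebraMap A (Localization.AtPrime p)) ≤ p := fun y hy => by
      by_contra hyp
      exact hQp.ne_top (Ideal.eq_top_of_isUnit_mem Q hy
        (IsLocalization.map_units (Localization.AtPrime p) (⟨y, hyp⟩ : p.primeCompl)))
    obtain ⟨a, ha, haq⟩ := h (Q.comap (algebraMap A _)) (hQp.comap _) hle hf
    exact haq (hQ (Ideal.mem_map_of_mem _ (Ideal.subset_span ha)))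
  obtain ⟨N, hN⟩ := hrad
  rw [← map_pow] at hN
  obtain ⟨s, hs, hsf⟩ := (IsLocalization.algebraMap_mem_map_algebraMap_iff p.primeCompl
    (Localization.AtPrime p) _ _).1 hN
  refine ⟨s, hs, fun q hq hsq hfq => ?_⟩
  by_contra H
  push Not at H
  exact (hq.mem_or_mem (Ideal.span_le.2 H hsf)).elim hsq fun h' => hfq (hq.mem_of_pow_mem N h')

/-- The primes strictly below a prime whose local ring is Noetherian of dimension at most one. -/
theorem below {A : Type u} [CommRing A] (p : Ideal A) [p.IsPrime] (B : Type u) [CommRing B] [Algebra A B]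
    [IsLocalization.AtPrime B p] [IsNoetherianRing B] (hd : ringKrullDim B ≤ 1) :
    {q : Ideal A | q.IsPrime ∧ q < p}.Finite ∧
      ∀ q q' : Ideal A, q.IsPrime → q'.IsPrime → q < p → q' ≤ q → q' = q := by
  haveI : IsLocalRing B := IsLocalization.AtPrime.isLocalRing B p
  haveI : Ring.KrullDimLE 1 B := Ring.krullDimLE_iff.mpr hd
  have hdisj : ∀ q : Ideal A, q ≤ p → Disjoint (p.primeCompl : Set A) (q : Set A) := fun q hq =>
    Set.disjoint_left.2 fun y hy hy' => hy (hq hy')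
  have hcm : ∀ q : Ideal A, q.IsPrime → q ≤ p → (q.map (algebraMap A B)).comap (algebraMap A B) = q :=
    fun q hq hle => IsLocalization.comap_map_of_isPrime_disjoint p.primeCompl B hq (hdisj q hle)
  have hpr : ∀ q : Ideal A, q.IsPrime → q ≤ p → (q.map (algebraMap A B)).IsPrime := fun q hq hle =>
    IsLocalization.isPrime_of_isPrime_disjoint p.primeCompl B q hq (hdisj q hle)
  have hmin : ∀ q : Ideal A, q.IsPrime → q < p → q.map (algebraMap A B) ∈ minimalPrimes B := by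
    intro q hq hlt
    refine (Ring.krullDimLE_one_iff.1 ‹_› _ (hpr q hq hlt.le)).resolve_right fun hmax => hlt.ne ?_
    rw [← hcm q hq hlt.le, IsLocalRing.eq_maximalIdeal hmax]
    exact IsLocalization.AtPrime.under_maximalIdeal B p
  refine ⟨Set.Finite.of_finite_image (f := Ideal.map (algebraMap A B)) ((minimalPrimes.finite_of_isNoetherianRing B).subset ?_) ?_,
    fun q q' hq hq' hlt hle => ?_⟩
  · rintro _ ⟨q, ⟨hq, hlt⟩, rfl⟩
    exact hmin q hq hlt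
  · rintro q ⟨hq, hlt⟩ q' ⟨hq', hlt'⟩ h
    rw [← hcm q hq hlt.le, ← hcm q' hq' hlt'.le]
    exact congrArg _ h
  · have h := hmin q hq hlt
    rw [← hcm q hq hlt.le, ← hcm q' hq' (hle.trans hlt.le)]
    exact congrArg _ (le_antisymm (Ideal.map_mono hle)
      (h.2 ⟨hpr q' hq' (hle.trans hlt.le), bot_le⟩ (Ideal.map_mono hle)))

theorem exists_chart {X : Scheme.{u}} (U : X.Opens) [QuasiCompact U.ι]
    (hdisc : DiscreteTopology ↥((U : Set X)ᶜ)) {N : (↑U : Scheme.{u}).Modules} (hN : PicF.IsInvertible N)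
    (x : X) (hx : x ∉ U) (hnoe : IsNoetherianRing (X.presheaf.stalk x))
    (hdim : ringKrullDim (X.presheaf.stalk x) ≤ 1) :
    ∃ (W : X.Opens) (f : Γ(X, W)), x ∈ W ∧ (∀ y ∈ W, y ∉ U → y = x) ∧ X.basicOpen f = W ⊓ U ∧
      ∃ e : Γ(N, U.ι ⁻¹ᵁ W), IsFrame e := by
  classical
  obtain ⟨V, hV, hVe⟩ := isOpen_induced_iff.1 (isOpen_discrete ({⟨x, hx⟩} : Set ↥((U : Set X)ᶜ)))
  have hxV : x ∈ V := (show (⟨x, hx⟩ : ↥((U : Set X)ᶜ)) ∈ Subtype.val ⁻¹' V by rw [hVe]; rfl)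
  have hVU : ∀ y ∈ V, y ∉ U → y = x := fun y hy hyU => by
    have : (⟨y, hyU⟩ : ↥((U : Set X)ᶜ)) ∈ Subtype.val ⁻¹' V := hy
    rw [hVe, Set.mem_singleton_iff, Subtype.ext_iff] at this
    exact this
  obtain ⟨_, ⟨W₀, hW₀, rfl⟩, hxW₀, hW₀V⟩ := X.isBasis_affineOpens.exists_subset_of_mem_open hxV hV
  let p := (hW₀.primeIdealOf ⟨x, hxW₀⟩).asIdeal
  letI := X.presheaf.algebra_section_stalk (⟨x, hxW₀⟩ : W₀)
  haveI := hW₀.isLocalization_stalk ⟨x, hxW₀⟩
  obtain ⟨hfin, hminimal⟩ := below p (X.presheaf.stalk x) hdim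
  let pt : PrimeSpectrum Γ(X, W₀) → X := fun q => hW₀.fromSpec q
  have hptW : ∀ q, pt q ∈ W₀ := fun q => by
    rw [← SetLike.mem_coe, ← hW₀.range_fromSpec]; exact Set.mem_range_self q
  have hpt : ∀ (q : PrimeSpectrum Γ(X, W₀)) (a : Γ(X, W₀)), pt q ∈ X.basicOpen a ↔ a ∉ q.asIdeal :=
    fun q a => by
      show q ∈ hW₀.fromSpec ⁻¹ᵁ X.basicOpen a ↔ _
      rw [hW₀.fromSpec_preimage_basicOpen]
      rfl
  have hptx : ∀ q : PrimeSpectrum Γ(X, W₀), q.asIdeal ≠ p → pt q ∈ U := fun q hq => by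
    by_contra hqU
    apply hq
    refine congrArg PrimeSpectrum.asIdeal (show q = hW₀.primeIdealOf ⟨x, hxW₀⟩ from
      hW₀.fromSpec.isOpenEmbedding.injective ?_)
    exact (hVU _ (hW₀V (hptW q)) hqU).trans (hW₀.fromSpec_primeIdealOf ⟨x, hxW₀⟩).symm
  -- a finite cover of the trace of `U`
  have hc : IsCompact ((W₀ ⊓ U : X.Opens) : Set X) := by
    have h1 := (U.ι.isCompact_preimage hW₀.isCompact).image U.ι.continuous
    convert h1 using 1
    ext y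
    constructor
    · intro hy; exact ⟨⟨y, hy.2⟩, hy.1, rfl⟩
    · rintro ⟨z, hz, rfl⟩; exact ⟨hz, z.2⟩
  obtain ⟨T, hT⟩ := hc.elim_finite_subcover
    (fun a : {a : Γ(X, W₀) // X.basicOpen a ≤ U} => (X.basicOpen a.1 : Set X)) (fun a => (X.basicOpen a.1).2)
    (fun y hy => by
      obtain ⟨a, ha, hya⟩ := hW₀.exists_basicOpen_le ⟨y, hy.2⟩ hy.1
      exact Set.mem_iUnion.2 ⟨⟨a, ha⟩, hya⟩)
  have hTp : ∀ a : {a : Γ(X, W₀) // X.basicOpen a ≤ U}, a.1 ∈ p := fun a => by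
    by_contra h
    exact hx (a.2 ((QCoh.mem_basicOpen_iff_notMem hW₀ hxW₀ a.1).2 h))
  -- the equation
  have hf : ∃ f ∈ p, ∀ q : Ideal Γ(X, W₀), q.IsPrime → q < p → f ∉ q := by
    by_contra H
    push Not at H
    have hsub : (p : Set Γ(X, W₀)) ⊆ ⋃ q ∈ (↑hfin.toFinset : Set (Ideal Γ(X, W₀))), (q : Set Γ(X, W₀)) := by
      intro f hf
      obtain ⟨q, hq, hlt, hfq⟩ := H f hf
      exact Set.mem_biUnion (hfin.mem_toFinset.2 ⟨hq, hlt⟩) hfq
    obtain ⟨q, hq, hle⟩ := (Ideal.subset_union_prime (f := id) ⊥ ⊥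
      fun q hq _ _ => (hfin.mem_toFinset.1 hq).1).1 hsub
    exact (hfin.mem_toFinset.1 hq).2.not_ge hle
  obtain ⟨f, hfp, hfq⟩ := hf
  have hs : ∀ a : {a : Γ(X, W₀) // X.basicOpen a ≤ U}, ∃ s, s ∉ p ∧
      ∀ q : Ideal Γ(X, W₀), q.IsPrime → s ∉ q → a.1 ∉ q → ∃ b ∈ ({f} : Set Γ(X, W₀)), b ∉ q :=
    fun a => spread p {f} a.1 fun q hq hle haq =>
      ⟨f, rfl, hfq q hq (lt_of_le_of_ne hle fun h => haq (h ▸ hTp a))⟩
  choose s hsp hs using hs
  let h₁ := ∏ a ∈ T, s a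
  have hh₁p : h₁ ∉ p := fun h => by
    obtain ⟨a, -, ha⟩ := (Ideal.IsPrime.prod_mem_iff).1 h
    exact hsp a ha
  have hkey : ∀ y (hy : y ∈ W₀), y ∈ X.basicOpen h₁ → (y ∈ U ↔ y ∈ X.basicOpen f) := fun y hy hy₁ => by
    constructor
    · intro hyU
      obtain ⟨a, ha, hya⟩ := Set.mem_iUnion₂.1 (hT ⟨hy, hyU⟩)
      rw [QCoh.mem_basicOpen_iff_notMem hW₀ hy]
      obtain ⟨b, rfl, hb⟩ := hs a (hW₀.primeIdealOf ⟨y, hy⟩).asIdeal inferInstance
        (fun h => (QCoh.mem_basicOpen_iff_notMem hW₀ hy h₁).1 hy₁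
          ((Ideal.IsPrime.prod_mem_iff).2 ⟨a, ha, h⟩)) ((QCoh.mem_basicOpen_iff_notMem hW₀ hy a.1).1 hya)
      exact hb
    · intro hyf
      by_contra hyU
      obtain rfl := hVU y (hW₀V hy) hyU
      exact (QCoh.mem_basicOpen_iff_notMem hW₀ hy f).1 hyf hfp
  have hDU : X.basicOpen (h₁ * f) ≤ U := fun y hy => by
    rw [Scheme.basicOpen_mul] at hy
    exact (hkey y (X.basicOpen_le h₁ hy.1) hy.1).2 hy.2
  have hA : IsAffineOpen (U.ι ⁻¹ᵁ X.basicOpen (h₁ * f)) := by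
    apply U.ι.isAffineOpen_iff_of_isOpenImmersion.1
    rw [Scheme.Hom.image_preimage_eq_opensRange_inf, Scheme.Opens.opensRange_ι, inf_eq_right.2 hDU]
    exact hW₀.basicOpen _
  let F : Set ↥U.toScheme :=
    {z | ∃ q : PrimeSpectrum Γ(X, W₀), q.asIdeal < p ∧ U.ι z = pt q}
  have hF : F.Finite := by
    have h1 : {q : PrimeSpectrum Γ(X, W₀) | q.asIdeal < p}.Finite :=
      (hfin.preimage fun a _ b _ h => PrimeSpectrum.ext h).subset fun q hq => ⟨q.2, hq⟩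
    refine ((h1.image pt).preimage U.ι.isOpenEmbedding.injective.injOn).subset ?_
    rintro z ⟨q, hq, hz⟩
    exact ⟨q, hq, hz.symm⟩
  have hFA : F ⊆ (U.ι ⁻¹ᵁ X.basicOpen (h₁ * f) : U.toScheme.Opens) := by
    rintro z ⟨q, hq, hz⟩
    show U.ι z ∈ X.basicOpen (h₁ * f)
    rw [hz, hpt]
    exact fun h => (q.2.mem_or_mem h).elim (fun h' => hh₁p (hq.le h')) (hfq _ q.2 hq)
  obtain ⟨O, e, hFO, he⟩ := InvUfdLib.exists_frame_finset hN hA F hF hFA fun z hz z' hz' hsp' => by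
    obtain ⟨q, hq, hzq⟩ := hz
    obtain ⟨q', hq', hzq'⟩ := hz'
    have h1 : pt q ⤳ pt q' := hzq ▸ hzq' ▸ hsp'.map U.ι.continuous
    have h2 : q.asIdeal ≤ q'.asIdeal :=
      (PrimeSpectrum.le_iff_specializes q q').2 (hW₀.fromSpec.isOpenEmbedding.isInducing.specializes_iff.1 h1)
    have h3 : q = q' := PrimeSpectrum.ext (hminimal _ _ q'.2 q.2 hq' h2)
    exact U.ι.isOpenEmbedding.injective (hzq.trans (h3 ▸ hzq'.symm))
  obtain ⟨s₂, hs₂p, hs₂⟩ := spread p {a | X.basicOpen a ≤ U.ι ''ᵁ O} (h₁ * f) fun q hq hle hq' => by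
    have hlt : q < p := lt_of_le_of_ne hle fun h => hq' (h ▸ Ideal.mul_mem_left _ _ hfp)
    have hU' : pt ⟨q, hq⟩ ∈ U := hptx ⟨q, hq⟩ hlt.ne
    have hO : pt ⟨q, hq⟩ ∈ U.ι ''ᵁ O := ⟨⟨_, hU'⟩, hFO ⟨⟨q, hq⟩, hlt, rfl⟩, rfl⟩
    obtain ⟨a, ha, hpa⟩ := hW₀.exists_basicOpen_le ⟨_, hO⟩ (hptW _)
    exact ⟨a, ha, (hpt _ a).1 hpa⟩
  let W := X.basicOpen (h₁ * s₂)
  have hWW₀ : W ≤ W₀ := X.basicOpen_le _
  refine ⟨W, resR hWW₀ f, ?_, fun y hy => hVU y (hW₀V (hWW₀ hy)), ?_, ?_⟩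
  · rw [QCoh.mem_basicOpen_iff_notMem hW₀ hxW₀]
    exact fun h => ((hW₀.primeIdealOf ⟨x, hxW₀⟩).2.mem_or_mem h).elim hh₁p hs₂p
  · rw [show resR hWW₀ f = X.presheaf.map (homOfLE hWW₀).op f from rfl, Scheme.basicOpen_res]
    ext y
    constructor
    · rintro ⟨h1, h2⟩
      refine ⟨h1, (hkey y (hWW₀ h1) ?_).2 h2⟩
      simp only [W, Scheme.basicOpen_mul] at h1
      exact h1.1
    · rintro ⟨h1, h2⟩
      refine ⟨h1, (hkey y (hWW₀ h1) ?_).1 h2⟩
      simp only [W, SetLike.mem_coe, Scheme.basicOpen_mul] at h1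
      exact h1.1
  · have hle : U.ι ⁻¹ᵁ W ≤ O := fun z hz => by
      have h1 : U.ι z ∈ X.basicOpen h₁ ⊓ X.basicOpen s₂ := by rw [← Scheme.basicOpen_mul]; exact hz
      have hy : U.ι z ∈ W₀ := hWW₀ hz
      have hzf := (hkey _ hy h1.1).1 z.2
      rw [QCoh.mem_basicOpen_iff_notMem hW₀ hy] at hzf
      obtain ⟨a, ha, haz⟩ := hs₂ (hW₀.primeIdealOf ⟨U.ι z, hy⟩).asIdeal inferInstance
        ((QCoh.mem_basicOpen_iff_notMem hW₀ hy s₂).1 h1.2)
        (fun h => ((hW₀.primeIdealOf ⟨U.ι z, hy⟩).2.mem_or_mem h).elim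
          ((QCoh.mem_basicOpen_iff_notMem hW₀ hy h₁).1 h1.1) hzf)
      obtain ⟨z', hz', he'⟩ := ha ((QCoh.mem_basicOpen_iff_notMem hW₀ hy a).2 haz)
      exact U.ι.isOpenEmbedding.injective he' ▸ hz'
    exact ⟨_, he.res hle⟩

end Groth.Agent.PicExtendPts
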