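import Groth.Agent.PicTorsThick
import Groth.Agent.PicExtendPts.Chart
import Groth.Agent.InvX.GenLocus

/-!
Extending invertible modules from a retrocompact open with discrete complement.
-/

set_option autoImplicit false
set_option backward.isDefEq.respectTransparency false
set_option backward.isDefEq.respectTransparency.types false
set_option linter.style.haveILetI false

universe u

open CategoryTheory AlgebraicGeometry TopologicalSpace Opposite
open Groth.Agent.AModX Groth.Agent.InvX Groth.Agent.PicTorsThick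

namespace Groth.Agent.PicExtendPts

variable {X : Scheme.{u}} (U : X.Opens)

theorem app_bijective {V : X.Opens} (hV : V ≤ U) : Function.Bijective (U.ι.app V) := by
  haveI := U.ι.isIso_app V (by rwa [Scheme.Opens.opensRange_ι])
  exact (ConcreteCategory.isIso_iff_bijective _).1 inferInstance

/-- Gluing: frames on the trace of `U` of opens meeting inside `U` define an invertible module. -/
theorem exists_glue {ι : Type u} [DecidableEq ι] (W : ι → X.Opens) (hcov : iSup W = ⊤)
    (hW : ∀ a b, a ≠ b → W a ⊓ W b ≤ U) {N : (↑U : Scheme.{u}).Modules} (e : ∀ a, Γ(N, U.ι ⁻¹ᵁ W a))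
    (he : ∀ a, IsFrame (e a)) :
    ∃ (L : X.Modules) (F : ∀ a, Γ(L, W a)), PicF.IsInvertible L ∧ (∀ a, IsFrame (F a)) ∧
      Nonempty ((Scheme.Modules.pullback U.ι).obj L ≅ N) ∧
      ∀ a b, a ≠ b → ∀ g : Γ(X, W a ⊓ W b),
        res N (U.ι.preimage_mono inf_le_left) (e a) =
          U.ι.app _ g • res N (U.ι.preimage_mono inf_le_right) (e b) →
        res L (inf_le_left : W a ⊓ W b ≤ W a) (F a) = g • res L inf_le_right (F b) := by
  have hg : ∀ a b, ∃ g : Γ(X, W a ⊓ W b), IsUnit g ∧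
      res N (U.ι.preimage_mono inf_le_left) (e a) =
        U.ι.app _ g • res N (U.ι.preimage_mono inf_le_right) (e b) ∧ (a = b → g = 1) := by
    intro a b
    by_cases hab : a = b
    · subst hab
      exact ⟨1, isUnit_one, by rw [map_one, one_smul], fun _ => rfl⟩
    · obtain ⟨c, hc⟩ := (he b).exists_coord (U.ι.preimage_mono (inf_le_right : W a ⊓ W b ≤ W b))
        (res N (U.ι.preimage_mono inf_le_left) (e a))
      obtain ⟨c', hc'⟩ := (he a).exists_coord (U.ι.preimage_mono (inf_le_left : W a ⊓ W b ≤ W a))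
        (res N (U.ι.preimage_mono inf_le_right) (e b))
      have hb := app_bijective U (hW a b hab)
      obtain ⟨g, rfl⟩ := hb.2 c
      obtain ⟨g', rfl⟩ := hb.2 c'
      refine ⟨g, IsUnit.of_mul_eq_one g' (hb.1 ?_), hc, fun h => absurd h hab⟩
      refine (he b).coord_unique (U.ι.preimage_mono (inf_le_right : W a ⊓ W b ≤ W b)) ?_
      rw [map_mul, map_one, one_smul, mul_comm, mul_smul, ← hc]
      exact hc'.symm
  choose g hgu hg hg1 using hg
  have htrans : ∀ (a b c : ι) (V : X.Opens) (ha : V ≤ W a) (hb : V ≤ W b) (hc : V ≤ W c),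
      resR (le_inf ha hc) (g a c) = resR (le_inf hb hc) (g b c) * resR (le_inf ha hb) (g a b) := by
    intro a b c V ha hb hc
    by_cases hall : a = b ∧ b = c
    · obtain ⟨rfl, rfl⟩ := hall
      rw [hg1 a a rfl]
      simp
    · have hVU : V ≤ U := by
        rcases not_and_or.1 hall with h | h
        · exact (le_inf ha hb).trans (hW a b h)
        · exact (le_inf hb hc).trans (hW b c h)
      apply (app_bijective U hVU).1
      rw [map_mul, app_resR, app_resR, app_resR]
      refine (he c).coord_unique (U.ι.preimage_mono hc) ?_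
      have e1 := congrArg (res N (U.ι.preimage_mono (le_inf ha hc))) (hg a c)
      have e2 := congrArg (res N (U.ι.preimage_mono (le_inf ha hb))) (hg a b)
      have e3 := congrArg (res N (U.ι.preimage_mono (le_inf hb hc))) (hg b c)
      simp only [res_smul, res_res] at e1 e2 e3
      rw [← e1, e2, e3, mul_comm, mul_smul]
  let t : H23.CocycleMod.Cocycle W :=
    { g := fun a b => (hgu a b).unit
      trans := fun a b c V ha hb hc => by
        rw [IsUnit.unit_spec, IsUnit.unit_spec, IsUnit.unit_spec]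
        exact htrans a b c V ha hb hc }
  refine ⟨H23.CocycleMod.mod t, H23.CocycleMod.frame t, H23.CocycleMod.isInvertible t hcov,
    H23.CocycleMod.isFrame_frame t, ?_, fun a b hab g' hg' => ?_⟩
  · refine nonempty_iso_of_transition (fun a => U.ι ⁻¹ᵁ W a)
      (fun z => (Opens.mem_iSup (s := W)).1 (show U.ι z ∈ iSup W by rw [hcov]; trivial)) (fun a => pullElt U.ι (H23.CocycleMod.frame t a))
      (fun a => isFrame_pullElt _ (H23.CocycleMod.isFrame_frame t a)) e he fun a b => ⟨_, ?_, hg a b⟩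
    let η : H23.CocycleMod.mod t ⟶ (Scheme.Modules.pushforward U.ι).obj
        ((Scheme.Modules.pullback U.ι).obj (H23.CocycleMod.mod t)) :=
      (Scheme.Modules.pullbackPushforwardAdjunction U.ι).unit.app _
    have h1 := congrArg (η.app (W a ⊓ W b)) (H23.CocycleMod.res_frame t a b)
    rw [Scheme.Modules.Hom.app_smul, app_res, app_res, IsUnit.unit_spec] at h1
    exact h1
  · rw [H23.CocycleMod.res_frame t a b, IsUnit.unit_spec]
    refine congrArg (· • _) ((app_bijective U (hW a b hab)).1 ?_)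
    exact (he b).coord_unique (U.ι.preimage_mono inf_le_right) ((hg a b).symm.trans hg')

variable [QuasiCompact U.ι] (hdisc : DiscreteTopology ↥((U : Set X)ᶜ))
  (hloc : ∀ x : X, x ∉ U → IsNoetherianRing (X.presheaf.stalk x) ∧ ringKrullDim (X.presheaf.stalk x) ≤ 1)

include hdisc hloc

theorem exists_extension {N : (↑U : Scheme.{u}).Modules} (hN : PicF.IsInvertible N) :
    ∃ L : X.Modules, PicF.IsInvertible L ∧ Nonempty (L.restrict U.ι ≅ N) := by
  classical
  have h1 : ∀ z : ↥U.toScheme, ∃ W : X.Opens, W ≤ U ∧ U.ι z ∈ W ∧ ∃ e : Γ(N, U.ι ⁻¹ᵁ W), IsFrame e := by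
    intro z
    obtain ⟨O, hz, e, he⟩ := InvX.exists_frame hN z
    refine ⟨U.ι ''ᵁ O, (U.ι.image_le_opensRange O).trans_eq U.opensRange_ι, ⟨z, hz, rfl⟩, _,
      he.res (U.ι.preimage_image_eq O).le⟩
  have h2 : ∀ x : ↥((U : Set X)ᶜ), ∃ W : X.Opens, x.1 ∈ W ∧ (∀ y ∈ W, y ∉ U → y = x.1) ∧
      ∃ e : Γ(N, U.ι ⁻¹ᵁ W), IsFrame e := fun x => by
    obtain ⟨W, f, hx, hu, -, e⟩ := exists_chart U hdisc hN x.1 x.2 (hloc _ x.2).1 (hloc _ x.2).2
    exact ⟨W, hx, hu, e⟩
  choose W₁ hW₁ hz₁ e₁ he₁ using h1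
  choose W₂ hz₂ hW₂ e₂ he₂ using h2
  let W : ↥U.toScheme ⊕ ↥((U : Set X)ᶜ) → X.Opens := Sum.elim W₁ W₂
  have hcov : iSup W = ⊤ := by
    refine eq_top_iff.2 fun x _ => ?_
    by_cases hx : x ∈ U
    · exact Opens.mem_iSup.2 ⟨.inl ⟨x, hx⟩, hz₁ ⟨x, hx⟩⟩
    · exact Opens.mem_iSup.2 ⟨.inr ⟨x, hx⟩, hz₂ ⟨x, hx⟩⟩
  have hne : ∀ a b, a ≠ b → W a ⊓ W b ≤ U := by
    rintro (a | a) (b | b) hab y hy
    · exact hW₁ a hy.1
    · exact hW₁ a hy.1
    · exact hW₁ b hy.2
    · by_contra hyU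
      exact hab (congrArg Sum.inr (Subtype.ext ((hW₂ a y hy.1 hyU).symm.trans (hW₂ b y hy.2 hyU))))
  obtain ⟨L, F, hL, -, ⟨φ⟩, -⟩ := exists_glue U W hcov hne (N := N) (fun a => Sum.rec e₁ e₂ a)
    (fun a => Sum.rec he₁ he₂ a)
  exact ⟨L, hL, ⟨((Scheme.Modules.restrictFunctorIsoPullback U.ι).app L) ≪≫ φ⟩⟩

theorem exists_section :
    ∃ (L : X.Modules) (s : Coh.structureModule X ⟶ L), PicF.IsInvertible L ∧ CohB1.genLocus L s = U := by
  classical
  let O := Coh.structureModule (↑U : Scheme.{u})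
  have h : ∀ a : Option ↥((U : Set X)ᶜ), ∃ (W : X.Opens) (f : Γ(X, W)), X.basicOpen f = W ⊓ U ∧
      (a.elim (W = U) fun x => x.1 ∈ W ∧ ∀ y ∈ W, y ∉ U → y = x.1) := by
    rintro (_ | x)
    · exact ⟨U, 1, by rw [Scheme.basicOpen_of_isUnit _ isUnit_one, inf_idem], rfl⟩
    · obtain ⟨W, f, hx, hu, hf, -⟩ := exists_chart U hdisc (N := O)
        isInvertible_structureModule x.1 x.2 (hloc _ x.2).1 (hloc _ x.2).2
      exact ⟨W, f, hf, hx, hu⟩
  choose W f hf hW using h
  have hu : ∀ a, IsUnit (U.ι.app (W a) (f a)) := fun a => by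
    have h1 : U.ι ⁻¹ᵁ W a ≤ U.toScheme.basicOpen (U.ι.app (W a) (f a)) := fun z hz => by
      rw [← Scheme.preimage_basicOpen]
      show U.ι z ∈ X.basicOpen (f a)
      rw [hf]
      exact ⟨hz, z.2⟩
    have h2 := isUnit_resR (le_refl _) (U.ι.app (W a) (f a)) h1
    rwa [resR_self] at h2
  have hne : ∀ a b, a ≠ b → W a ⊓ W b ≤ U := by
    rintro (_ | a) (_ | b) hab y hy
    · exact absurd rfl hab
    · exact (hW none).le hy.1
    · exact (hW none).le hy.2
    · by_contra hyU
      exact hab (congrArg some (Subtype.ext (((hW (some a)).2 y hy.1 hyU).symm.trans ((hW (some b)).2 y hy.2 hyU))))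
  have hcov : iSup W = ⊤ := by
    refine eq_top_iff.2 fun x _ => ?_
    by_cases hx : x ∈ U
    · exact Opens.mem_iSup.2 ⟨none, (hW none).symm.le hx⟩
    · exact Opens.mem_iSup.2 ⟨some ⟨x, hx⟩, (hW (some ⟨x, hx⟩)).1⟩
  let e : ∀ a, Γ(O, U.ι ⁻¹ᵁ W a) := fun a => ((hu a).unit⁻¹ : _ˣ).1 •
    (show Γ(O, U.ι ⁻¹ᵁ W a) from (1 : Γ(U.toScheme, U.ι ⁻¹ᵁ W a)))
  have hec : ∀ a, U.ι.app (W a) (f a) • e a =
      (show Γ(O, U.ι ⁻¹ᵁ W a) from (1 : Γ(U.toScheme, U.ι ⁻¹ᵁ W a))) := fun a => by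
    rw [← mul_smul, IsUnit.mul_val_inv, one_smul]
  obtain ⟨L, F, hL, hF, -, hgF⟩ := exists_glue U W hcov hne e fun a =>
    (isFrame_one _).isUnit_smul (Units.isUnit _)
  obtain ⟨t, ht, -⟩ := existsUnique_glue (M := L) (V := ⊤) W (fun _ => le_top)
    (fun p _ => Opens.mem_iSup.1 (by rw [hcov]; trivial)) (fun a => f a • F a) fun a b => by
      by_cases hab : a = b
      · subst hab; rfl
      · obtain ⟨c, hc⟩ := ((isFrame_one _).isUnit_smul (Units.isUnit (hu b).unit⁻¹)).exists_coord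
          (U.ι.preimage_mono (inf_le_right : W a ⊓ W b ≤ W b))
          (res O (U.ι.preimage_mono (inf_le_left : W a ⊓ W b ≤ W a)) (e a))
        obtain ⟨g, rfl⟩ := (app_bijective U (hne a b hab)).2 c
        rw [res_smul, res_smul, hgF a b hab g hc, ← mul_smul]
        refine congrArg (· • _) ((app_bijective U (hne a b hab)).1 ?_)
        rw [map_mul, app_resR, app_resR]
        have h1 := congrArg (res O (U.ι.preimage_mono (inf_le_left : W a ⊓ W b ≤ W a))) (hec a)
        have h2 := congrArg (res O (U.ι.preimage_mono (inf_le_right : W a ⊓ W b ≤ W b))) (hec b)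
        rw [res_smul] at h1 h2
        rw [hc, ← mul_smul] at h1
        refine ((isFrame_one _).isUnit_smul (Units.isUnit (hu b).unit⁻¹)).coord_unique
          (U.ι.preimage_mono inf_le_right) (h1.trans (Eq.trans ?_ h2.symm))
        show resR _ (1 : Γ(U.toScheme, _)) = resR _ (1 : Γ(U.toScheme, _))
        rw [map_one, map_one]
  refine ⟨L, ofSect t, hL, ?_⟩
  have key : ∀ a, CohB1.genLocus L (ofSect t) ⊓ W a = W a ⊓ U := fun a => by
    rw [genLocus_inf (ofSect t) (hF a) (g := f a) (by rw [one_ofSect, ht a]), hf]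
  apply Opens.ext
  ext x
  obtain ⟨a, ha⟩ := Opens.mem_iSup.1 (show x ∈ iSup W by rw [hcov]; trivial)
  have := SetLike.ext_iff.1 (key a) x
  exact ⟨fun h => (this.1 ⟨h, ha⟩).2, fun h => (this.2 ⟨ha, h⟩).1⟩

end Groth.Agent.PicExtendPts
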